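import Mathlib
import Cfsg.Agent.Lib.Involutions.NormalFour

/-!
# A normal subgroup of a 2-group without noncentral normal four-subgroups

If `T ⊴ P` contains no elementary abelian subgroup of order four normal in `P` but has two
involutions, then `T` has a cyclic subgroup `W` of index two, inverted modulo involutions.
-/

set_option autoImplicit false

namespace Cfsg.Agent.Lib.RankOneFour

open Cfsg.Agent.Lib

variable {P : Type*} [Group P] [Finite P]

/-- A normal subgroup properly containing a normal subgroup has an element outside which is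
central of order two modulo the smaller one. -/
theorem exists_central_mod (hP : IsPGroup 2 P) (W D : Subgroup P) [W.Normal] [D.Normal]
    {d : P} (hd : d ∈ D) (hdW : d ∉ W) :
    ∃ e ∈ D, e ∉ W ∧ e * e ∈ W ∧ ∀ p : P, e⁻¹ * (p * e * p⁻¹) ∈ W := by
  haveI : Fact (Nat.Prime 2) := ⟨Nat.prime_two⟩
  haveI : Group.IsNilpotent (P ⧸ W) := (hP.to_quotient W).isNilpotent
  set π := QuotientGroup.mk' W
  haveI : (D.map π).Normal := Subgroup.Normal.map ‹_› _ (QuotientGroup.mk'_surjective W)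
  have hne : D.map π ≠ ⊥ := by
    intro h
    rw [Subgroup.map_eq_bot_iff, QuotientGroup.ker_mk'] at h
    exact hdW (h hd)
  obtain ⟨q, hq, hq1⟩ := (D.map π ⊓ Subgroup.center (P ⧸ W)).bot_or_exists_ne_one.resolve_left
    (Solvable.inf_center_ne_bot hne)
  obtain ⟨k, hk⟩ := IsPGroup.iff_orderOf.1 (hP.to_quotient W) q
  obtain _ | k := k
  · exact absurd (orderOf_eq_one_iff.1 (by simpa using hk)) hq1
  have h2 : orderOf (q ^ 2 ^ k) = 2 := by
    rw [orderOf_pow' q (by positivity), hk, Nat.gcd_eq_right (pow_dvd_pow 2 (by omega)),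
      Nat.pow_div (by omega) two_pos]
    simp
  obtain ⟨⟨e, he, hee⟩, hec⟩ := pow_mem hq (2 ^ k)
  rw [← hee] at h2 hec
  refine ⟨e, he, fun h => ?_, ?_, fun p => ?_⟩
  · rw [show π e = 1 from (QuotientGroup.eq_one_iff e).2 h, orderOf_one] at h2
    omega
  · rw [← QuotientGroup.eq_one_iff]
    show π (e * e) = 1
    rw [map_mul, ← sq, ← h2, pow_orderOf_eq_one]
  · rw [← QuotientGroup.eq_one_iff]
    show π (e⁻¹ * (p * e * p⁻¹)) = 1
    rw [map_mul, map_mul, map_mul, map_inv, map_inv, Subgroup.mem_center_iff.1 hec (π p),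
      mul_inv_cancel_right, inv_mul_cancel]

/-- An abelian 2-group with a unique involution: every element lies in one cyclic subgroup. -/
theorem exists_generator (hP : IsPGroup 2 P) (W : Subgroup P)
    (hab : ∀ a ∈ W, ∀ b ∈ W, a * b = b * a) {z : P} (hz : z ∈ W) (hz1 : z ≠ 1)
    (hu : ∀ w ∈ W, w * w = 1 → w = 1 ∨ w = z) :
    ∃ r ∈ W, ∀ w ∈ W, w ∈ Subgroup.zpowers r := by
  classical
  haveI : Fact (Nat.Prime 2) := ⟨Nat.prime_two⟩
  obtain ⟨⟨r, hr⟩, hmax⟩ := Finite.exists_max (fun w : W => orderOf (w : P))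
  refine ⟨r, hr, ?_⟩
  obtain ⟨m, hm⟩ := IsPGroup.iff_orderOf.1 hP r
  obtain _ | m := m
  · have h := hmax ⟨z, hz⟩
    rw [hm, pow_zero] at h
    exact absurd (orderOf_eq_one_iff.1 (le_antisymm h (orderOf_pos z))) hz1
  have hzr : z ∈ Subgroup.zpowers r := by
    have h2 : orderOf (r ^ 2 ^ m) = 2 := by
      rw [orderOf_pow' r (by positivity), hm, Nat.gcd_eq_right (pow_dvd_pow 2 (by omega)),
        Nat.pow_div (by omega) two_pos]
      simp
    rcases hu _ (pow_mem hr _) (Involutions.invol_mul_self h2) with h | h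
    · exact absurd h (Involutions.invol_ne_one h2)
    · rw [← h]
      exact pow_mem (Subgroup.mem_zpowers r) _
  suffices key : ∀ j, ∀ w ∈ W, w ^ 2 ^ j = 1 → w ∈ Subgroup.zpowers r by
    intro w hw
    obtain ⟨j, hj⟩ := IsPGroup.iff_orderOf.1 hP w
    exact key j w hw (by rw [← hj, pow_orderOf_eq_one])
  intro j
  induction j with
  | zero =>
    intro w _ h
    rw [pow_zero, pow_one] at h
    rw [h]
    exact one_mem _
  | succ j ih =>
    intro w hw h
    have h' : (w * w) ^ 2 ^ j = 1 := by rw [← sq, ← pow_mul, ← pow_succ', h]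
    obtain ⟨i, hi⟩ := Subgroup.mem_zpowers_iff.1 (ih _ (mul_mem hw hw) h')
    rcases Int.even_or_odd' i with ⟨l, rfl | rfl⟩
    · have hc : Commute w (r ^ (-l)) := hab w hw _ (zpow_mem hr _)
      have hsq : w * r ^ (-l) * (w * r ^ (-l)) = 1 := by
        rw [hc.symm.mul_mul_mul_comm, ← hi, ← zpow_add, ← zpow_add]
        simp [two_mul]
      have hmem : w * r ^ (-l) ∈ Subgroup.zpowers r := by
        rcases hu _ (mul_mem hw (zpow_mem hr _)) hsq with e | e <;> rw [e]
        exacts [one_mem _, hzr]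
      simpa using mul_mem hmem (zpow_mem (Subgroup.mem_zpowers r) l)
    · exfalso
      have hne : (w * w) ^ 2 ^ m ≠ 1 := by
        rw [← hi]
        intro hc
        rw [← zpow_natCast, ← zpow_mul, ← orderOf_dvd_iff_zpow_eq_one, hm, Nat.cast_pow,
          Nat.cast_pow, pow_succ, mul_comm ((2 * l + 1 : ℤ))] at hc
        have := (mul_dvd_mul_iff_left (pow_ne_zero m (by norm_num : (2 : ℤ) ≠ 0))).1 hc
        norm_num at this
      obtain ⟨n, hn⟩ := IsPGroup.iff_orderOf.1 hP w
      have hle := hmax ⟨w, hw⟩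
      rw [hn, hm] at hle
      have hnm : n ≤ m + 1 := (Nat.pow_le_pow_iff_right (by norm_num)).1 hle
      apply hne
      rw [← sq, ← pow_mul, ← pow_succ', ← orderOf_dvd_iff_pow_eq_one, hn]
      exact pow_dvd_pow 2 hnm

/-- In an abelian 2-subgroup with unique involution `z`, the elements with square `z` are
`s` and `s⁻¹`, and every element with nontrivial square has one of them as a power. -/
theorem inverted_of_sq_ne_one {W : Subgroup P} (hP : IsPGroup 2 P)
    (hab : ∀ a ∈ W, ∀ b ∈ W, a * b = b * a) {z s : P}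
    (hu : ∀ w ∈ W, w * w = 1 → w = 1 ∨ w = z) (hs : s ∈ W) (hss : s * s = z) (hz : z * z = 1)
    {w : P} (hw : w ∈ W) (hw2 : w * w ≠ 1) : ∃ k : ℤ, s = w ^ k := by
  haveI : Fact (Nat.Prime 2) := ⟨Nat.prime_two⟩
  obtain ⟨n, hn⟩ := IsPGroup.iff_orderOf.1 hP w
  have hn2 : 2 ≤ n := by
    by_contra hlt
    apply hw2
    rw [← sq, ← orderOf_dvd_iff_pow_eq_one, hn]
    exact (pow_dvd_pow 2 (by omega : n ≤ 1)).trans (by norm_num)
  set u := w ^ 2 ^ (n - 2) with hu'
  have hu4 : orderOf u = 4 := by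
    rw [hu', orderOf_pow' w (by positivity), hn, Nat.gcd_eq_right (pow_dvd_pow 2 (by omega)),
      Nat.pow_div (by omega) two_pos, show n - (n - 2) = 2 by omega]
    norm_num
  have huW : u ∈ W := pow_mem hw _
  have huu : u * u = z := by
    rcases hu _ (mul_mem huW huW) (by
      rw [show u * u * (u * u) = u ^ orderOf u by rw [hu4]; simp [pow_succ, mul_assoc], pow_orderOf_eq_one]) with h | h
    · exfalso
      have := orderOf_dvd_iff_pow_eq_one.2 (show u ^ 2 = 1 by rw [sq, h])
      rw [hu4] at this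
      omega
    · exact h
  have hzi : z⁻¹ = z := inv_eq_of_mul_eq_one_right hz
  have hc : Commute u s⁻¹ := hab u huW _ (inv_mem hs)
  rcases hu _ (mul_mem huW (inv_mem hs)) (by
    rw [hc.symm.mul_mul_mul_comm, huu, ← mul_inv_rev, hss, mul_inv_cancel]) with h | h
  · refine ⟨((2 ^ (n - 2) : ℕ) : ℤ), ?_⟩
    rw [zpow_natCast, ← hu']
    exact (mul_inv_eq_one.1 h).symm
  · refine ⟨-((2 ^ (n - 2) : ℕ) : ℤ), ?_⟩
    rw [zpow_neg, zpow_natCast, ← hu', eq_inv_iff_mul_eq_one]
    have hu1 : u = z * s := by rw [← h, inv_mul_cancel_right]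
    rw [hu1, ← mul_assoc, hab s hs z (hss ▸ mul_mem hs hs), mul_assoc, hss, hz]

theorem structure_of_no_normal_four (hP : IsPGroup 2 P) (T : Subgroup P) [T.Normal]
    (hT : ∀ F : Subgroup P, F.Normal → F ≤ T → (∀ a ∈ F, ∀ b ∈ F, a * b = b * a) →
      (∀ a ∈ F, a * a = 1) → ∀ a ∈ F, ∀ b ∈ F, a ≠ 1 → b ≠ 1 → a = b)
    {a₀ b₀ : P} (ha : a₀ ∈ T) (hb : b₀ ∈ T) (ha2 : a₀ * a₀ = 1) (hb2 : b₀ * b₀ = 1)
    (ha1 : a₀ ≠ 1) (hb1 : b₀ ≠ 1) (hab₀ : a₀ ≠ b₀) :
    ∃ (W : Subgroup P) (z s : P), W ≤ T ∧ z ∈ W ∧ z ≠ 1 ∧ z * z = 1 ∧ z ∈ Subgroup.center P ∧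
      s ∈ W ∧ s * s = z ∧ (∀ p : P, p * s * p⁻¹ = s ∨ p * s * p⁻¹ = s⁻¹) ∧
      (∀ w ∈ W, w * w = 1 → w = 1 ∨ w = z) ∧ (∀ w ∈ W, w * w ≠ 1 → ∃ k : ℤ, s = w ^ k) ∧
      ∀ x ∈ T, x * x = 1 → x ≠ 1 → x ≠ z →
        x ∉ W ∧ x * s * x⁻¹ = s⁻¹ ∧ (∀ y ∈ T, y ∈ W ∨ x * y ∈ W) ∧
          ∀ w ∈ W, w * x = x * w → w * w = 1 := by
  classical
  haveI : Fact (Nat.Prime 2) := ⟨Nat.prime_two⟩
  obtain ⟨⟨W, hWn, hWT, hWab⟩, hWmax⟩ :=
    @Finite.exists_max {W : Subgroup P // W.Normal ∧ W ≤ T ∧ ∀ a ∈ W, ∀ b ∈ W, a * b = b * a} _ _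
      ⟨⟨⊥, inferInstance, bot_le, fun a ha b hb => by
        rw [Subgroup.mem_bot.1 ha, Subgroup.mem_bot.1 hb]⟩⟩ _ (fun W => Nat.card W.1)
  haveI := hWn
  -- `W` is self-centralizing in `T`
  have hCW : ∀ y ∈ T, (∀ w ∈ W, y * w = w * y) → y ∈ W := by
    intro y hy hyc
    by_contra hyW
    obtain ⟨e, he, heW, hee, hec⟩ := exists_central_mod hP W
      (T ⊓ Subgroup.centralizer (W : Set P)) (d := y)
      ⟨hy, Subgroup.mem_centralizer_iff.2 fun w hw => (hyc w hw).symm⟩ hyW
    set π := QuotientGroup.mk' W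
    have hecen : π e ∈ Subgroup.center (P ⧸ W) := Subgroup.mem_center_iff.2 fun q => by
      obtain ⟨p, rfl⟩ := QuotientGroup.mk'_surjective W q
      have h : π (e⁻¹ * (p * e * p⁻¹)) = 1 := (QuotientGroup.eq_one_iff _).2 (hec p)
      rw [map_mul, map_inv, inv_mul_eq_one, map_mul, map_mul, map_inv,
        eq_mul_inv_iff_mul_eq] at h
      exact h.symm
    haveI hZn : (Subgroup.zpowers (π e)).Normal := ⟨fun a ha q => by
      rw [Subgroup.mem_center_iff.1 (Subgroup.zpowers_le.2 hecen ha) q, mul_inv_cancel_right]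
      exact ha⟩
    set W' := (Subgroup.zpowers (π e)).comap π
    have hform : ∀ g ∈ W', ∃ i : ℤ, ∃ w ∈ W, g = e ^ i * w := by
      intro g hg
      obtain ⟨i, hi⟩ := Subgroup.mem_zpowers_iff.1 hg
      refine ⟨i, (e ^ i)⁻¹ * g, ?_, by group⟩
      rw [← QuotientGroup.eq_one_iff]
      show π ((e ^ i)⁻¹ * g) = 1
      rw [map_mul, map_inv, map_zpow, hi, inv_mul_cancel]
    have hle : W ≤ W' := fun w hw => by
      show π w ∈ Subgroup.zpowers (π e)
      rw [show π w = 1 from (QuotientGroup.eq_one_iff w).2 hw]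
      exact one_mem _
    have heW' : e ∈ W' := Subgroup.mem_zpowers (π e)
    have hab' : ∀ a ∈ W', ∀ b ∈ W', a * b = b * a := by
      intro a ha b hb
      obtain ⟨i, w, hw, rfl⟩ := hform a ha
      obtain ⟨j, v, hv, rfl⟩ := hform b hb
      have hc : ∀ w ∈ W, Commute e w := fun w hw =>
        ((Subgroup.mem_centralizer_iff.1 he.2) w hw).symm
      exact (((Commute.refl e).zpow_zpow i j).mul_right ((hc v hv).zpow_left i)).mul_left
        ((((hc w hw).symm).zpow_right j).mul_right (hWab w hw v hv))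
    have hT' : W' ≤ T := by
      intro g hg
      obtain ⟨i, w, hw, rfl⟩ := hform g hg
      exact T.mul_mem (T.zpow_mem he.1 i) (hWT hw)
    have h1 := hWmax ⟨W', inferInstance, hT', hab'⟩
    exact heW ((Subgroup.eq_of_le_of_card_ge hle h1).symm ▸ heW')
  -- the involution
  obtain ⟨z, hzW, hz1, hzz⟩ : ∃ z ∈ W, z ≠ 1 ∧ z * z = 1 := by
    have hne : W ≠ ⊥ := by
      intro h
      refine ha1 (Subgroup.mem_bot.1 (h ▸ hCW a₀ ha fun w hw => ?_))
      rw [h, Subgroup.mem_bot] at hw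
      rw [hw, mul_one, one_mul]
    obtain ⟨w, hw, hw1⟩ := W.bot_or_exists_ne_one.resolve_left hne
    obtain ⟨k, hk⟩ := IsPGroup.iff_orderOf.1 hP w
    obtain _ | k := k
    · exact absurd (orderOf_eq_one_iff.1 (by simpa using hk)) hw1
    have h2 : orderOf (w ^ 2 ^ k) = 2 := by
      rw [orderOf_pow' w (by positivity), hk, Nat.gcd_eq_right (pow_dvd_pow 2 (by omega)),
        Nat.pow_div (by omega) two_pos]
      simp
    exact ⟨_, pow_mem hw _, Involutions.invol_ne_one h2, Involutions.invol_mul_self h2⟩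
  have hu : ∀ w ∈ W, w * w = 1 → w = 1 ∨ w = z := by
    intro w hw hww
    by_cases hw1 : w = 1
    · exact Or.inl hw1
    let F : Subgroup P :=
      { carrier := {a | a ∈ W ∧ a * a = 1}
        one_mem' := ⟨one_mem W, one_mul 1⟩
        mul_mem' := fun {a b} ha hb => ⟨mul_mem ha.1 hb.1, by
          rw [(show Commute b a from hWab b hb.1 a ha.1).mul_mul_mul_comm, ha.2, hb.2, one_mul]⟩
        inv_mem' := fun {a} ha => ⟨inv_mem ha.1, by rw [← mul_inv_rev, ha.2, inv_one]⟩ }
    have hFn : F.Normal := ⟨fun a ha p => ⟨hWn.conj_mem a ha.1 p, by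
      rw [show p * a * p⁻¹ * (p * a * p⁻¹) = p * (a * a) * p⁻¹ by group, ha.2]; group⟩⟩
    exact Or.inr (hT F hFn (fun a ha => hWT ha.1) (fun a ha b hb => hWab a ha.1 b hb.1)
      (fun a ha => ha.2) w ⟨hw, hww⟩ z ⟨hzW, hzz⟩ hw1 hz1)
  have hzc : z ∈ Subgroup.center P := Subgroup.mem_center_iff.2 fun p => by
    have hsq : p * z * p⁻¹ * (p * z * p⁻¹) = 1 := by
      rw [show p * z * p⁻¹ * (p * z * p⁻¹) = p * (z * z) * p⁻¹ by group, hzz]; group
    rcases hu _ (hWn.conj_mem z hzW p) hsq with h | h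
    · exact absurd (conj_eq_one_iff.1 h) hz1
    · exact mul_inv_eq_iff_eq_mul.1 h
  obtain ⟨r, hr, hgen⟩ := exists_generator hP W hWab hzW hz1 hu
  -- an element of order four
  obtain ⟨s, hsW, hss⟩ : ∃ s ∈ W, s * s = z := by
    by_cases h : ∀ w ∈ W, w * w = 1
    · have hx : ∀ c ∈ T, c ∈ W := fun c hc => hCW c hc fun w hw => by
        rcases hu w hw (h w hw) with rfl | rfl
        · rw [mul_one, one_mul]
        · exact Subgroup.mem_center_iff.1 hzc c
      rcases hu a₀ (hx a₀ ha) ha2 with e | e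
      · exact absurd e ha1
      rcases hu b₀ (hx b₀ hb) hb2 with e' | e'
      · exact absurd e' hb1
      exact absurd (e.trans e'.symm) hab₀
    · push Not at h
      obtain ⟨w, hw, hw2⟩ := h
      obtain ⟨k, hk⟩ := IsPGroup.iff_orderOf.1 hP w
      have hk2 : 2 ≤ k := by
        by_contra hlt
        apply hw2
        rw [← sq, ← orderOf_dvd_iff_pow_eq_one, hk]
        exact (pow_dvd_pow 2 (by omega : k ≤ 1)).trans (by norm_num)
      set u := w ^ 2 ^ (k - 2) with hu'
      have hu4 : orderOf u = 4 := by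
        rw [hu', orderOf_pow' w (by positivity), hk, Nat.gcd_eq_right (pow_dvd_pow 2 (by omega)),
          Nat.pow_div (by omega) two_pos, show k - (k - 2) = 2 by omega]
        norm_num
      refine ⟨u, pow_mem hw _, ?_⟩
      rcases hu _ (mul_mem (pow_mem hw _) (pow_mem hw _)) (by
        rw [show u * u * (u * u) = u ^ orderOf u by rw [hu4]; simp [pow_succ, mul_assoc], pow_orderOf_eq_one]) with h | h
      · exfalso
        have := orderOf_dvd_iff_pow_eq_one.2 (show u ^ 2 = 1 by rw [sq, h])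
        rw [hu4] at this
        omega
      · exact h
  have hpow := fun {w : P} (hw : w ∈ W) (hw2 : w * w ≠ 1) =>
    inverted_of_sq_ne_one hP hWab hu hsW hss hzz hw hw2
  have hzi : z⁻¹ = z := inv_eq_of_mul_eq_one_right hzz
  have hsinv : s⁻¹ = z * s := by
    rw [inv_eq_iff_mul_eq_one, ← mul_assoc, hWab s hsW z hzW, mul_assoc, hss, hzz]
  have hsne : s⁻¹ ≠ s := fun h => hz1 (by
    rw [← hss]; nth_rewrite 1 [← h]; exact inv_mul_cancel s)
  have hsconj : ∀ p : P, p * s * p⁻¹ = s ∨ p * s * p⁻¹ = s⁻¹ := by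
    intro p
    have hW' := hWn.conj_mem s hsW p
    have hsq : p * s * p⁻¹ * (p * s * p⁻¹) = z := by
      rw [show p * s * p⁻¹ * (p * s * p⁻¹) = p * (s * s) * p⁻¹ by group, hss,
        Subgroup.mem_center_iff.1 hzc p, mul_inv_cancel_right]
    have hc : Commute (s⁻¹) (p * s * p⁻¹) := hWab _ (inv_mem hsW) _ hW'
    rcases hu _ (mul_mem hW' (inv_mem hsW)) (by
      rw [hc.mul_mul_mul_comm, hsq, ← mul_inv_rev, hss, mul_inv_cancel]) with h | h
    · exact Or.inl (mul_inv_eq_one.1 h)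
    · exact Or.inr (by rw [hsinv, ← h, inv_mul_cancel_right])
  -- the centralizer of `s` in `T` is `W`
  have hCs : ∀ y ∈ T, y * s = s * y → y ∈ W := by
    intro y hy hys
    by_contra hyW
    let K : Subgroup P := T ⊓ Subgroup.centralizer ({s} : Set P)
    haveI : (Subgroup.centralizer ({s} : Set P)).Normal := ⟨fun a ha p => by
      rw [Subgroup.mem_centralizer_singleton_iff] at ha ⊢
      rcases hsconj p with h | h
      · have : Commute (p * a * p⁻¹) (p * s * p⁻¹) := by
          rw [commute_iff_eq, show p * a * p⁻¹ * (p * s * p⁻¹) = p * (a * s) * p⁻¹ by group, ha]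
          group
        rwa [h] at this
      · have : Commute (p * a * p⁻¹) (p * s * p⁻¹) := by
          rw [commute_iff_eq, show p * a * p⁻¹ * (p * s * p⁻¹) = p * (a * s) * p⁻¹ by group, ha]
          group
        rw [h, Commute.inv_right_iff] at this
        exact this⟩
    obtain ⟨e, ⟨heT, hes⟩, heW, hee, hec⟩ := exists_central_mod hP W K (d := y)
      ⟨hy, Subgroup.mem_centralizer_singleton_iff.2 hys⟩ hyW
    have hes' : Commute e s := Subgroup.mem_centralizer_singleton_iff.1 hes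
    have hec' : ∀ w ∈ W, e * w * e⁻¹ * w⁻¹ = 1 ∨ e * w * e⁻¹ * w⁻¹ = z := by
      intro w hw
      set c := e * w * e⁻¹ * w⁻¹ with hc
      have hcW : c ∈ W := mul_mem (hWn.conj_mem w hw e) (inv_mem hw)
      refine hu c hcW ?_
      by_contra hc2
      have hinv : e * c * e⁻¹ = c⁻¹ := by
        rw [hc, show e * (e * w * e⁻¹ * w⁻¹) * e⁻¹ = (e * e) * w * (e * e)⁻¹ * (e * w⁻¹ * e⁻¹) by
          group, hWab (e * e) hee w hw]
        group
      obtain ⟨k, hk⟩ := hpow hcW hc2
      apply hsne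
      calc s⁻¹ = e * s * e⁻¹ := by rw [hk, ← conj_zpow, hinv, inv_zpow]
        _ = s := by rw [hes'.eq, mul_inv_cancel_right]
    obtain ⟨i, hi⟩ := Subgroup.mem_zpowers_iff.1 (hgen _ hee)
    have her : e * r * e⁻¹ * r⁻¹ = z := by
      refine (hec' r hr).resolve_left fun h => heW (hCW e heT fun w hw => ?_)
      rw [mul_inv_eq_one, mul_inv_eq_iff_eq_mul] at h
      obtain ⟨j, rfl⟩ := Subgroup.mem_zpowers_iff.1 (hgen w hw)
      exact (show Commute e r from h).zpow_right j
    have herj : ∀ j : ℤ, e * r ^ j * e⁻¹ = z ^ j * r ^ j := by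
      intro j
      rw [← conj_zpow]
      have : e * r * e⁻¹ = z * r := by rw [← her]; group
      rw [this, (show Commute z r from (Subgroup.mem_center_iff.1 hzc r).symm).mul_zpow]
    have heven : Even i := by
      rcases Int.even_or_odd i with h | ⟨l, rfl⟩
      · exact h
      · exfalso
        have h := herj (2 * l + 1)
        rw [hi, show e * (e * e) * e⁻¹ = e * e by group, zpow_add, zpow_mul, zpow_two, hzz,
          one_zpow, one_mul, zpow_one, eq_comm, mul_eq_right] at h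
        exact hz1 h
    obtain ⟨l, rfl⟩ := heven
    -- an involution in the coset `eW`
    have hsq : e * r ^ (-l) * (e * r ^ (-l)) = 1 ∨ e * r ^ (-l) * (e * r ^ (-l)) = z := by
      have h : e * r ^ (-l) * (e * r ^ (-l)) = z ^ (-l) := by
        calc e * r ^ (-l) * (e * r ^ (-l))
            = (e * r ^ (-l) * e⁻¹) * (e * e) * r ^ (-l) := by group
          _ = z ^ (-l) * r ^ (-l) * r ^ (l + l) * r ^ (-l) := by rw [herj, hi]
          _ = z ^ (-l) := by group
      rw [h]
      rcases Int.even_or_odd' (-l) with ⟨u, hu' | hu'⟩ <;> rw [hu']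
      · left; rw [zpow_mul, zpow_two, hzz, one_zpow]
      · right; rw [zpow_add, zpow_mul, zpow_two, hzz, one_zpow, one_mul, zpow_one]
    obtain ⟨v, hv, hev⟩ : ∃ v ∈ W, e * v * (e * v) = 1 := by
      rcases hsq with h | h
      · exact ⟨_, zpow_mem hr _, h⟩
      · refine ⟨r ^ (-l) * s, mul_mem (zpow_mem hr _) hsW, ?_⟩
        have hc : Commute s (e * r ^ (-l)) :=
          hes'.symm.mul_right (hWab s hsW _ (zpow_mem hr _))
        rw [← mul_assoc e, hc.mul_mul_mul_comm, h, hss, hzz]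
    set e' := e * v with he'
    have he'W : e' ∉ W := fun h => heW (by simpa [he'] using mul_mem h (inv_mem hv))
    have he'T : e' ∈ T := mul_mem heT (hWT hv)
    have he'c : ∀ w ∈ W, e' * w * e'⁻¹ * w⁻¹ = e * w * e⁻¹ * w⁻¹ := by
      intro w hw
      rw [he', show e * v * w * (e * v)⁻¹ = e * (v * w * v⁻¹) * e⁻¹ by group,
        hWab v hv w hw, mul_inv_cancel_right]
    have hconj : ∀ p : P, p * e' * p⁻¹ = e' ∨ p * e' * p⁻¹ = z * e' := by
      intro p
      have hw : e'⁻¹ * (p * e' * p⁻¹) ∈ W := by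
        rw [show e'⁻¹ * (p * e' * p⁻¹)
          = v⁻¹ * (e⁻¹ * (p * e * p⁻¹)) * (p * v * p⁻¹) by rw [he']; group]
        exact mul_mem (mul_mem (inv_mem hv) (hec p)) (hWn.conj_mem v hv p)
      set w := e'⁻¹ * (p * e' * p⁻¹) with hwdef
      have hp : p * e' * p⁻¹ = e' * w := by rw [hwdef, mul_inv_cancel_left]
      have hw1 : e' * w * (e' * w) = 1 := by
        rw [← hp, show p * e' * p⁻¹ * (p * e' * p⁻¹) = p * (e' * e') * p⁻¹ by group, hev]; group
      have hei : e'⁻¹ = e' := inv_eq_of_mul_eq_one_right hev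
      have hcw : e' * w * e'⁻¹ * w⁻¹ * (w * w) = 1 := by
        rw [hei, show e' * w * e' * w⁻¹ * (w * w) = e' * w * (e' * w) by group, hw1]
      rw [he'c w hw] at hcw
      have hww : w * w = 1 := by
        by_contra hne
        rcases hec' w hw with h | h
        · rw [h, one_mul] at hcw; exact hne hcw
        · have hwz : w * w = z := by
            rw [h] at hcw
            rw [← hzi]; exact (inv_eq_of_mul_eq_one_right hcw).symm
          -- then `w = s^±1` commutes with `e`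
          have hcs : Commute (s⁻¹) w := hWab _ (inv_mem hsW) w hw
          have hew : Commute e w := by
            rcases hu _ (mul_mem hw (inv_mem hsW)) (by
              rw [hcs.mul_mul_mul_comm, hwz, ← mul_inv_rev, hss, mul_inv_cancel]) with g | g
            · rw [mul_inv_eq_one.1 g]; exact hes'
            · have hwzs : w = z * s := by rw [← g, inv_mul_cancel_right]
              rw [hwzs]
              exact (show Commute e z from Subgroup.mem_center_iff.1 hzc e).mul_right hes'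
          rw [hew.eq, mul_inv_cancel_right, mul_inv_cancel] at h
          exact hz1 h.symm
      rcases hu w hw hww with h | h
      · left; rw [hp, h, mul_one]
      · right; rw [hp, h, Subgroup.mem_center_iff.1 hzc e']
    have hne1 : e' ≠ 1 := fun h => he'W (h ▸ one_mem W)
    have hnez : e' ≠ z := fun h => he'W (h ▸ hzW)
    obtain ⟨F, hF, hFm⟩ := Involutions.exists_klein_mem_iff hzz hev hz1 hne1 hnez
      (Subgroup.mem_center_iff.1 hzc e').symm
    have hzfix : ∀ p : P, p * z * p⁻¹ = z := fun p => by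
      rw [Subgroup.mem_center_iff.1 hzc p, mul_inv_cancel_right]
    have hzzr : z * (z * e') = e' := by rw [← mul_assoc, hzz, one_mul]
    have hFn : F.Normal := ⟨fun g hg p => by
      rcases (hFm g).1 hg with rfl | rfl | rfl | rfl
      · simp
      · rw [hzfix]; exact hg
      · rcases hconj p with h | h <;> rw [h]
        · exact hg
        · exact (hFm _).2 (Or.inr (Or.inr (Or.inr rfl)))
      · rw [show p * (z * e') * p⁻¹ = p * z * p⁻¹ * (p * e' * p⁻¹) by group, hzfix]
        rcases hconj p with h | h <;> rw [h]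
        · exact hg
        · exact (hFm _).2 (Or.inr (Or.inr (Or.inl hzzr)))⟩
    have hFT : F ≤ T := fun g hg => by
      rcases (hFm g).1 hg with rfl | rfl | rfl | rfl
      exacts [one_mem T, hWT hzW, he'T, mul_mem (hWT hzW) he'T]
    have hcz : ∀ g, Commute z g := fun g => (Subgroup.mem_center_iff.1 hzc g).symm
    have hFc : ∀ a ∈ F, ∀ b ∈ F, a * b = b * a := by
      intro a ha b hb
      rcases (hFm a).1 ha with rfl | rfl | rfl | rfl <;>
        rcases (hFm b).1 hb with rfl | rfl | rfl | rfl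
      all_goals first
        | simp
        | exact (hcz _).eq
        | exact (hcz _).symm.eq
        | exact ((hcz e').symm.mul_right (Commute.refl e')).eq
        | exact ((hcz e').symm.mul_right (Commute.refl e')).symm.eq
    have hF2 : ∀ a ∈ F, a * a = 1 := fun a ha => by
      rcases (hFm a).1 ha with rfl | rfl | rfl | rfl
      exacts [one_mul 1, hzz, hev, by rw [(hcz e').symm.mul_mul_mul_comm, hzz, hev, one_mul]]
    exact hnez (hT F hFn hFT hFc hF2 e' ((hFm _).2 (Or.inr (Or.inr (Or.inl rfl)))) z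
      ((hFm _).2 (Or.inr (Or.inl rfl))) hne1 hz1)
  refine ⟨W, z, s, hWT, hzW, hz1, hzz, hzc, hsW, hss, hsconj, hu, fun w hw h => hpow hw h, ?_⟩
  intro x hx hxx hx1 hxz
  have hxW : x ∉ W := fun h => (hu x h hxx).elim hx1 hxz
  have hxs : x * s * x⁻¹ = s⁻¹ := (hsconj x).resolve_left fun h =>
    hxW (hCs x hx (mul_inv_eq_iff_eq_mul.1 h))
  refine ⟨hxW, hxs, fun y hy => ?_, fun w hw hwx => ?_⟩
  · rcases hsconj y with h | h
    · exact Or.inl (hCs y hy (mul_inv_eq_iff_eq_mul.1 h))
    · refine Or.inr (hCs _ (mul_mem hx hy) ?_)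
      rw [← mul_inv_eq_iff_eq_mul, show x * y * s * (x * y)⁻¹ = x * (y * s * y⁻¹) * x⁻¹ by group,
        h, ← conj_inv, hxs, inv_inv]
  · by_contra hne
    obtain ⟨k, hk⟩ := hpow hw hne
    apply hsne
    rw [← hxs, hk, ((show Commute w x from hwx).zpow_left k).symm.eq, mul_inv_cancel_right]

end Cfsg.Agent.Lib.RankOneFour
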