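import Mathlib
import Cfsg.Agent.Lib.RankOneFour.Core
import Cfsg.Agent.S0111

/-!
# A four-group acting on a perfect group whose fixed points have 2-rank one
-/

set_option autoImplicit false

namespace Cfsg.Agent.Lib.RankOneFour

open Cfsg.Agent.Lib
open scoped Pointwise

variable {G : Type*} [Group G] [Finite G]

/-- A Sylow 2-subgroup of `C` over a given 2-subgroup, universal under conjugation. -/
theorem exists_twoSylow {C Q : Subgroup G} (hQ : IsPGroup 2 ↥Q) (hQC : Q ≤ C) :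
    ∃ S : Subgroup G, IsPGroup 2 ↥S ∧ Q ≤ S ∧ S ≤ C ∧ ¬ 2 ∣ S.relIndex C ∧
      ∀ R : Subgroup G, IsPGroup 2 ↥R → R ≤ C → ∃ c ∈ C, ∀ y ∈ R, c * y * c⁻¹ ∈ S := by
  haveI : Fact (Nat.Prime 2) := ⟨Nat.prime_two⟩
  have hQ' : IsPGroup 2 ↥(Q.subgroupOf C) :=
    hQ.of_equiv (Subgroup.subgroupOfEquivOfLe hQC).symm
  obtain ⟨P, hP⟩ := hQ'.exists_le_sylow
  refine ⟨(P : Subgroup C).map C.subtype, P.isPGroup'.map _, fun y hy =>
    ⟨⟨y, hQC hy⟩, hP (Subgroup.mem_subgroupOf.2 hy), rfl⟩, Subgroup.map_subtype_le _, ?_, ?_⟩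
  · rw [Subgroup.relIndex, Subgroup.subgroupOf, Subgroup.comap_map_eq_self_of_injective
      C.subtype_injective]
    exact P.not_dvd_index
  · intro R hR hRC
    have hR' : IsPGroup 2 ↥(R.subgroupOf C) :=
      hR.of_equiv (Subgroup.subgroupOfEquivOfLe hRC).symm
    obtain ⟨R', hR''⟩ := hR'.exists_le_sylow
    obtain ⟨c, hc⟩ := MulAction.exists_smul_eq C R' P
    refine ⟨c, c.2, fun y hy => ⟨c * ⟨y, hRC hy⟩ * c⁻¹, ?_, rfl⟩⟩
    rw [← hc, Sylow.coe_subgroup_smul]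
    exact ⟨⟨y, hRC hy⟩, hR'' (Subgroup.mem_subgroupOf.2 hy), by simp⟩

/-- A Sylow 2-subgroup of `A` lying in `C ≤ A` absorbs the 2-subgroups of `C` up to conjugacy. -/
theorem conj_into_of_sylow {A C T R : Subgroup G} (hT : IsPGroup 2 ↥T) (hTC : T ≤ C) (hCA : C ≤ A)
    (hTA : ¬ 2 ∣ T.relIndex A) (hR : IsPGroup 2 ↥R) (hRC : R ≤ C) :
    ∃ c ∈ C, ∀ y ∈ R, c * y * c⁻¹ ∈ T := by
  haveI : Fact (Nat.Prime 2) := ⟨Nat.prime_two⟩
  obtain ⟨S, hS, hTS, hSC, -, hSu⟩ := exists_twoSylow hT hTC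
  obtain ⟨c, hc, hcR⟩ := hSu R hR hRC
  suffices hST : S = T from ⟨c, hc, fun y hy => hST ▸ hcR y hy⟩
  have h1 : T.relIndex S ∣ T.relIndex A :=
    ⟨S.relIndex A, (Subgroup.relIndex_mul_relIndex T S A hTS (hSC.trans hCA)).symm⟩
  obtain ⟨k, hk⟩ := IsPGroup.iff_card.1 hS
  have h2 : T.relIndex S ∣ 2 ^ k := by
    rw [← hk]
    exact Subgroup.index_dvd_card _
  obtain ⟨j, -, hj⟩ := (Nat.dvd_prime_pow Nat.prime_two).1 h2
  obtain _ | j := j
  · exact le_antisymm (Subgroup.relIndex_eq_one.1 (by simpa using hj)) hTS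
  · exact absurd (((dvd_pow_self 2 (Nat.succ_ne_zero j)).trans hj.symm.dvd).trans h1) hTA

/-- A subgroup of order four generated by two commuting involutions, normalised by a four-group
each of whose involutions fixes only one of its involutions, does not exist. -/
theorem eq_of_mem_invariant {U F : Subgroup G} (hU : IsKleinFour U)
    (hFn : ∀ u ∈ U, ∀ a ∈ F, u * a * u⁻¹ ∈ F) (hFc : ∀ a ∈ F, ∀ b ∈ F, a * b = b * a)
    (hF2 : ∀ a ∈ F, a * a = 1)
    (h1 : ∀ t ∈ U, t ≠ 1 → ∀ a ∈ F, ∀ b ∈ F, a ≠ 1 → b ≠ 1 → t * a = a * t → t * b = b * t → a = b)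
    {a b : G} (ha : a ∈ F) (hb : b ∈ F) (ha1 : a ≠ 1) (hb1 : b ≠ 1) : a = b := by
  classical
  have hUsq : ∀ u ∈ U, u * u = 1 := fun u hu =>
    congrArg Subtype.val (IsKleinFour.mul_self (⟨u, hu⟩ : U))
  have hUc : ∀ u ∈ U, ∀ v ∈ U, u * v = v * u := fun u hu v hv =>
    congrArg Subtype.val (mul_comm_of_exponent_two IsKleinFour.exponent_two (⟨u, hu⟩ : U) ⟨v, hv⟩)
  obtain ⟨t₁, t₂, ht₁, ht₂, h₁, h₂, h₁₂⟩ :
      ∃ t₁ t₂ : G, t₁ ∈ U ∧ t₂ ∈ U ∧ t₁ ≠ 1 ∧ t₂ ≠ 1 ∧ t₁ ≠ t₂ := by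
    have hc : ((U : Set G) \ {1}).ncard = 3 := by
      rw [Set.ncard_sdiff_singleton_of_mem (one_mem U), ← Nat.card_coe_set_eq,
        SetLike.coe_sort_coe, IsKleinFour.card_four]
    obtain ⟨t₁, ⟨ht₁, h₁⟩, t₂, ⟨ht₂, h₂⟩, hne⟩ :=
      (Set.one_lt_ncard (Set.toFinite _)).1 (by rw [hc]; norm_num)
    exact ⟨t₁, t₂, ht₁, ht₂, h₁, h₂, hne⟩
  have hui : ∀ u ∈ U, u⁻¹ = u := fun u hu => inv_eq_of_mul_eq_one_right (hUsq u hu)
  have hfix : ∀ u ∈ U, ∀ f ∈ F, u * (f * (u * f * u⁻¹)) = (f * (u * f * u⁻¹)) * u := by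
    intro u hu f hf
    rw [← mul_inv_eq_iff_eq_mul]
    calc u * (f * (u * f * u⁻¹)) * u⁻¹ = u * f * u⁻¹ * ((u * u) * f * (u * u)⁻¹) := by group
      _ = u * f * u⁻¹ * f := by rw [hUsq u hu, one_mul, inv_one, mul_one]
      _ = f * (u * f * u⁻¹) := hFc _ (hFn u hu f hf) f hf
  -- the common fixed involution
  obtain ⟨z, hzF, hz1, hzfix⟩ : ∃ z ∈ F, z ≠ 1 ∧ t₁ * z = z * t₁ := by
    by_cases h : a * (t₁ * a * t₁⁻¹) = 1
    · refine ⟨a, ha, ha1, ?_⟩
      have hh : t₁ * a * t₁⁻¹ = a := by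
        rw [← mul_left_cancel_iff (a := a), h, hF2 a ha]
      rw [mul_inv_eq_iff_eq_mul] at hh
      exact hh
    · exact ⟨_, mul_mem ha (hFn t₁ ht₁ a ha), h, hfix t₁ ht₁ a ha⟩
  have hz₂ : t₂ * z = z * t₂ := by
    have hc : t₁ * (t₂ * z * t₂⁻¹) = t₂ * z * t₂⁻¹ * t₁ := by
      have h12 : Commute t₁ t₂ := hUc t₁ ht₁ t₂ ht₂
      exact (h12.mul_right hzfix).mul_right h12.inv_right
    have h := h1 t₁ ht₁ h₁ z hzF _ (hFn t₂ ht₂ z hzF) hz1
      (fun h => hz1 (conj_eq_one_iff.1 h)) hzfix hc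
    rw [eq_mul_inv_iff_mul_eq] at h
    exact h.symm
  have hall : ∀ u ∈ U, ∀ f ∈ F, u ≠ 1 → u * z = z * u → f ≠ 1 → f ≠ z →
      u * f * u⁻¹ = f * z := by
    intro u hu f hf hu1 huz hf1 hfz
    by_cases h : f * (u * f * u⁻¹) = 1
    · exfalso
      have hh : u * f * u⁻¹ = f := by rw [← mul_left_cancel_iff (a := f), h, hF2 f hf]
      rw [mul_inv_eq_iff_eq_mul] at hh
      exact hfz (h1 u hu hu1 f hf z hzF hf1 hz1 hh huz)
    · have := h1 u hu hu1 _ (mul_mem hf (hFn u hu f hf)) z hzF h hz1 (hfix u hu f hf) huz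
      calc u * f * u⁻¹ = f * (f * (u * f * u⁻¹)) := by rw [← mul_assoc, hF2 f hf, one_mul]
        _ = f * z := by rw [this]
  have h12 : t₁ * t₂ ≠ 1 := fun h => h₁₂ (by rw [eq_inv_of_mul_eq_one_left h, hui t₂ ht₂])
  suffices key : ∀ f ∈ F, f ≠ 1 → f = z from (key a ha ha1).trans (key b hb hb1).symm
  intro f hf hf1
  by_contra hfz
  have e1 := hall t₁ ht₁ f hf h₁ hzfix hf1 hfz
  have e2 := hall t₂ ht₂ f hf h₂ hz₂ hf1 hfz
  have e3 := hall (t₁ * t₂) (mul_mem ht₁ ht₂) f hf h12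
    (by rw [mul_assoc, hz₂, ← mul_assoc, hzfix, mul_assoc]) hf1 hfz
  have e4 : t₁ * t₂ * f * (t₁ * t₂)⁻¹ = t₁ * (t₂ * f * t₂⁻¹) * t₁⁻¹ := by group
  rw [e4, e2, show t₁ * (f * z) * t₁⁻¹ = (t₁ * f * t₁⁻¹) * (t₁ * z * t₁⁻¹) by group, e1, hzfix,
    mul_inv_cancel_right, mul_assoc, hF2 z hzF] at e3
  exact hz1 (mul_left_cancel (e3.symm.trans (by rw [mul_one])))

/-- The main lemma: a perfect-type group has no two commuting involutions. -/
theorem eq_of_commuting_involutions {A U : Subgroup G} (hU : IsKleinFour U)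
    (hUA : U ≤ Subgroup.normalizer (A : Set G))
    (hperf : ∀ M : Subgroup ↥A, M.Normal → M.index ≠ 2)
    (h1 : ∀ t ∈ U, t ≠ 1 → ∀ a ∈ A, ∀ b ∈ A, a * a = 1 → b * b = 1 → a ≠ 1 → b ≠ 1 →
      a * b = b * a → t * a = a * t → t * b = b * t → a = b)
    {a b : G} (ha : a ∈ A) (hb : b ∈ A) (ha2 : a * a = 1) (hb2 : b * b = 1) (ha1 : a ≠ 1)
    (hb1 : b ≠ 1) (hab : a * b = b * a) : a = b := by
  classical
  haveI : Fact (Nat.Prime 2) := ⟨Nat.prime_two⟩
  by_contra hne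
  have hUsq : ∀ u ∈ U, u * u = 1 := fun u hu =>
    congrArg Subtype.val (IsKleinFour.mul_self (⟨u, hu⟩ : U))
  have hU2 : IsPGroup 2 ↥U := fun u => ⟨1, by rw [pow_one, sq]; exact IsKleinFour.mul_self u⟩
  set N := Subgroup.normalizer (A : Set G) with hN
  have hAN : A ≤ N := Subgroup.le_normalizer
  obtain ⟨P, hP, hUP, hPN, hPi, hPu⟩ := exists_twoSylow hU2 hUA
  set T := P ⊓ A with hTdef
  have hT2 : IsPGroup 2 ↥T := hP.to_le inf_le_left
  have hPA : ∀ p ∈ P, ∀ y ∈ A, p * y * p⁻¹ ∈ A := fun p hp y hy =>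
    (Subgroup.mem_normalizer_iff.1 (hPN hp) y).1 hy
  -- `T` is a Sylow 2-subgroup of `A`
  have hTA : ¬ 2 ∣ T.relIndex A := by
    obtain ⟨S, hS, -, hSA, hSi, hSu⟩ :=
      exists_twoSylow (IsPGroup.of_bot (p := 2) (G := G)) (bot_le : (⊥ : Subgroup G) ≤ A)
    obtain ⟨c, hc, hcS⟩ := hPu S hS (hSA.trans hAN)
    have hle : S.map (MulAut.conj c).toMonoidHom ≤ T := by
      rintro _ ⟨y, hy, rfl⟩
      exact ⟨hcS y hy, (Subgroup.mem_normalizer_iff.1 hc y).1 (hSA hy)⟩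
    have h1' := Subgroup.card_le_of_le hle
    rw [← Nat.card_congr (S.equivMapOfInjective _ (MulAut.conj c).injective).toEquiv] at h1'
    obtain ⟨S', hS', hTS', hS'A, -, -⟩ := exists_twoSylow hT2 (inf_le_right : T ≤ A)
    obtain ⟨d, hd, hdS⟩ := hSu S' hS' hS'A
    have hle2 : S'.map (MulAut.conj d).toMonoidHom ≤ S := by
      rintro _ ⟨y, hy, rfl⟩
      exact hdS y hy
    have h2' := Subgroup.card_le_of_le hle2
    rw [← Nat.card_congr (S'.equivMapOfInjective _ (MulAut.conj d).injective).toEquiv] at h2'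
    have hcard : Nat.card T = Nat.card S :=
      le_antisymm ((Subgroup.card_le_of_le hTS').trans h2') h1'
    have e1 := Subgroup.relIndex_mul_relIndex ⊥ T A bot_le inf_le_right
    have e2 := Subgroup.relIndex_mul_relIndex ⊥ S A bot_le hSA
    simp only [Subgroup.relIndex_bot_left] at e1 e2
    rw [hcard] at e1
    have : T.relIndex A = S.relIndex A :=
      Nat.eq_of_mul_eq_mul_left Nat.card_pos (e1.trans e2.symm)
    rwa [this]
  -- two involutions in `T`
  obtain ⟨F, hF, hFm⟩ :=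
    Involutions.exists_klein_mem_iff ha2 hb2 ha1 hb1 (Ne.symm hne) hab
  have hFA : F ≤ A := fun g hg => by
    rcases (hFm g).1 hg with rfl | rfl | rfl | rfl
    exacts [one_mem A, ha, hb, mul_mem ha hb]
  have hF2 : IsPGroup 2 ↥F := fun u => ⟨1, by
    haveI := hF
    rw [pow_one, sq]; exact IsKleinFour.mul_self u⟩
  obtain ⟨c, hc, hcF⟩ := conj_into_of_sylow hT2 (inf_le_right : T ≤ A) le_rfl hTA hF2 hFA
  have ha' := hcF a ((hFm a).2 (Or.inr (Or.inl rfl)))
  have hb' := hcF b ((hFm b).2 (Or.inr (Or.inr (Or.inl rfl))))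
  haveI : (T.subgroupOf P).Normal := ⟨fun y hy p => ⟨(p * y * p⁻¹).2,
    hPA p p.2 y hy.2⟩⟩
  have hTinv : ∀ F' : Subgroup ↥P, F'.Normal → F' ≤ T.subgroupOf P →
      (∀ a ∈ F', ∀ b ∈ F', a * b = b * a) → (∀ a ∈ F', a * a = 1) →
      ∀ a ∈ F', ∀ b ∈ F', a ≠ 1 → b ≠ 1 → a = b := by
    intro F' hn hle hFc hF2 a ha b hb ha1 hb1
    have hmem : ∀ y ∈ F'.map P.subtype, ∃ y' ∈ F', (y' : G) = y := fun y hy => hy
    refine Subtype.ext (eq_of_mem_invariant hU (F := F'.map P.subtype) ?_ ?_ ?_ ?_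
      ⟨a, ha, rfl⟩ ⟨b, hb, rfl⟩ (by simpa using ha1) (by simpa using hb1))
    · intro u hu y hy
      obtain ⟨y', hy', rfl⟩ := hmem y hy
      exact ⟨_, hn.conj_mem y' hy' ⟨u, hUP hu⟩, rfl⟩
    · intro y hy w hw
      obtain ⟨y', hy', rfl⟩ := hmem y hy
      obtain ⟨w', hw', rfl⟩ := hmem w hw
      exact congrArg Subtype.val (hFc y' hy' w' hw')
    · intro y hy
      obtain ⟨y', hy', rfl⟩ := hmem y hy
      exact congrArg Subtype.val (hF2 y' hy')
    · intro t ht ht1 y hy w hw hy1 hw1 hty htw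
      obtain ⟨y', hy', rfl⟩ := hmem y hy
      obtain ⟨w', hw', rfl⟩ := hmem w hw
      exact h1 t ht ht1 _ (hle hy').2 _ (hle hw').2 (congrArg Subtype.val (hF2 y' hy'))
        (congrArg Subtype.val (hF2 w' hw')) hy1 hw1
        (congrArg Subtype.val (hFc y' hy' w' hw')) hty htw
  have conj_sq : ∀ {y : G}, y * y = 1 → c * y * c⁻¹ * (c * y * c⁻¹) = 1 := fun {y} h => by
    rw [show c * y * c⁻¹ * (c * y * c⁻¹) = c * (y * y) * c⁻¹ by group, h]; group
  obtain ⟨W', z', s', hWT, hzW, hz1, hzz, hzc, hsW, hss, hsconj, hu, hpow, hx⟩ :=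
    structure_of_no_normal_four hP (T.subgroupOf P) hTinv
      (a₀ := ⟨c * a * c⁻¹, ha'.1⟩) (b₀ := ⟨c * b * c⁻¹, hb'.1⟩) ha' hb'
      (Subtype.ext (conj_sq ha2)) (Subtype.ext (conj_sq hb2))
      (fun h => ha1 (conj_eq_one_iff.1 (congrArg Subtype.val h)))
      (fun h => hb1 (conj_eq_one_iff.1 (congrArg Subtype.val h)))
      (fun h => hne (by simpa using congrArg Subtype.val h))
  obtain ⟨x', hxT, hxx, hx1, hxz⟩ : ∃ x ∈ T.subgroupOf P, x * x = 1 ∧ x ≠ 1 ∧ x ≠ z' := by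
    by_cases h : (⟨c * a * c⁻¹, ha'.1⟩ : ↥P) = z'
    · exact ⟨⟨c * b * c⁻¹, hb'.1⟩, hb', Subtype.ext (conj_sq hb2),
        fun h' => hb1 (conj_eq_one_iff.1 (congrArg Subtype.val h')),
        fun h' => hne (by simpa using congrArg Subtype.val (h.trans h'.symm))⟩
    · exact ⟨⟨c * a * c⁻¹, ha'.1⟩, ha', Subtype.ext (conj_sq ha2),
        fun h' => ha1 (conj_eq_one_iff.1 (congrArg Subtype.val h')), h⟩
  obtain ⟨hxW, hxs, hcov, hCx⟩ := hx x' hxT hxx hx1 hxz
  -- move to `G`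
  set z : G := (z' : G) with hzdef
  set s : G := (s' : G) with hsdef
  set x : G := (x' : G) with hxdef
  have hzA : z ∈ A := (hWT hzW).2
  have hsT : s ∈ T := hWT hsW
  have hxA : x ∈ A := hxT.2
  have hzz' : z * z = 1 := congrArg Subtype.val hzz
  have hxx' : x * x = 1 := congrArg Subtype.val hxx
  have hz1' : z ≠ 1 := fun h => hz1 (Subtype.ext h)
  have hx1' : x ≠ 1 := fun h => hx1 (Subtype.ext h)
  have hxz' : x ≠ z := fun h => hxz (Subtype.ext h)
  have hzcP : ∀ p ∈ P, p * z = z * p := fun p hp =>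
    congrArg Subtype.val (Subgroup.mem_center_iff.1 hzc ⟨p, hp⟩)
  have hzx : z * x = x * z := (hzcP x x'.2).symm
  have hxs' : x * s * x⁻¹ = s⁻¹ := congrArg Subtype.val hxs
  have hss' : s * s = z := congrArg Subtype.val hss
  obtain ⟨V, hV, hVm⟩ := Involutions.exists_klein_mem_iff hzz' hxx' hz1' hx1' hxz' hzx
  -- centralizer of an involution `≠ z` inside `T`
  have hCT : ∀ v ∈ T, v * v = 1 → v ≠ 1 → v ≠ z → ∀ y ∈ T, y * v = v * y →
      y = 1 ∨ y = z ∨ y = v ∨ y = z * v := by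
    intro v hv hvv hv1 hvz y hy hyv
    obtain ⟨-, -, hcv, hCv⟩ := hx ⟨v, hv.1⟩ hv (Subtype.ext hvv)
      (fun h => hv1 (congrArg Subtype.val h)) (fun h => hvz (congrArg Subtype.val h))
    rcases hcv ⟨y, hy.1⟩ hy with h | h
    · rcases hu _ h (hCv _ h (Subtype.ext hyv)) with e | e
      · exact Or.inl (congrArg Subtype.val e)
      · exact Or.inr (Or.inl (congrArg Subtype.val e))
    · have hc' : Commute (v * y) v := (Commute.refl v).mul_left hyv
      rcases hu _ h (hCv _ h (Subtype.ext hc'.eq)) with e | e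
      · have e' : v * y = 1 := congrArg Subtype.val e
        right; right; left
        exact (eq_inv_of_mul_eq_one_right e').trans (inv_eq_of_mul_eq_one_right hvv)
      · have e' : v * y = z := congrArg Subtype.val e
        right; right; right
        rw [← e', mul_assoc, hyv, ← mul_assoc, hvv, one_mul]
  -- a 2-subgroup of `A` centralizing `z` and `x` lies in `V`
  have hQ : ∀ R : Subgroup G, IsPGroup 2 ↥R → R ≤ A → x ∈ R → (∀ y ∈ R, y * z = z * y) →
      (∀ y ∈ R, y * x = x * y) → ∀ n ∈ R, n = 1 ∨ n = z ∨ n = x ∨ n = z * x := by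
    intro R hR hRA hxR hRz hRx n hn
    have hTC : T ≤ A ⊓ Subgroup.centralizer ({z} : Set G) := fun y hy =>
      ⟨hy.2, Subgroup.mem_centralizer_singleton_iff.2 (hzcP y hy.1)⟩
    obtain ⟨d, hd, hdR⟩ := conj_into_of_sylow hT2 hTC inf_le_left hTA hR
      (fun y hy => ⟨hRA hy, Subgroup.mem_centralizer_singleton_iff.2 (hRz y hy)⟩)
    have hdz : d * z * d⁻¹ = z := by
      rw [Subgroup.mem_centralizer_singleton_iff.1 hd.2, mul_inv_cancel_right]
    rcases hCT (d * x * d⁻¹) (hdR x hxR) (by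
        rw [show d * x * d⁻¹ * (d * x * d⁻¹) = d * (x * x) * d⁻¹ by group, hxx']; group)
      (fun h => hx1' (conj_eq_one_iff.1 h))
      (fun h => hxz' (by rw [← hdz] at h; simpa using h))
      (d * n * d⁻¹) (hdR n hn) (by
        rw [show d * n * d⁻¹ * (d * x * d⁻¹) = d * (n * x) * d⁻¹ by group, hRx n hn]; group)
      with e | e | e | e
    · exact Or.inl (conj_eq_one_iff.1 e)
    · exact Or.inr (Or.inl (by rw [← hdz] at e; simpa using e))
    · exact Or.inr (Or.inr (Or.inl (by simpa using e)))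
    · refine Or.inr (Or.inr (Or.inr ?_))
      rw [show z * (d * x * d⁻¹) = d * (z * x) * d⁻¹ by
        rw [show d * (z * x) * d⁻¹ = d * z * d⁻¹ * (d * x * d⁻¹) by group, hdz]] at e
      simpa using e
  -- an element of `U` fixing `s`
  obtain ⟨t, htU, ht1, hts⟩ : ∃ t ∈ U, t ≠ 1 ∧ t * s = s * t := by
    by_contra hcon
    push Not at hcon
    have hinv : ∀ t ∈ U, t ≠ 1 → t * s * t⁻¹ = s⁻¹ := fun t ht ht1 => by
      rcases hsconj ⟨t, hUP ht⟩ with h | h
      · exact absurd (mul_inv_eq_iff_eq_mul.1 (congrArg Subtype.val h)) (hcon t ht ht1)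
      · exact congrArg Subtype.val h
    obtain ⟨t₁, t₂, ht₁, ht₂, h₁, h₂, h₁₂⟩ :
        ∃ t₁ t₂ : G, t₁ ∈ U ∧ t₂ ∈ U ∧ t₁ ≠ 1 ∧ t₂ ≠ 1 ∧ t₁ ≠ t₂ := by
      have hc : ((U : Set G) \ {1}).ncard = 3 := by
        rw [Set.ncard_sdiff_singleton_of_mem (one_mem U), ← Nat.card_coe_set_eq,
          SetLike.coe_sort_coe, IsKleinFour.card_four]
      obtain ⟨t₁, ⟨ht₁, h₁⟩, t₂, ⟨ht₂, h₂⟩, hne⟩ :=
        (Set.one_lt_ncard (Set.toFinite _)).1 (by rw [hc]; norm_num)
      exact ⟨t₁, t₂, ht₁, ht₂, h₁, h₂, hne⟩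
    refine hcon (t₁ * t₂) (mul_mem ht₁ ht₂)
      (fun h => h₁₂ (by rw [eq_inv_of_mul_eq_one_left h, inv_eq_of_mul_eq_one_right (hUsq t₂ ht₂)]))
      (mul_inv_eq_iff_eq_mul.1 ?_)
    rw [show t₁ * t₂ * s * (t₁ * t₂)⁻¹ = t₁ * (t₂ * s * t₂⁻¹) * t₁⁻¹ by group, hinv t₂ ht₂ h₂,
      ← conj_inv, hinv t₁ ht₁ h₁, inv_inv]
  have htP := hUP htU
  have htt : t * t = 1 := hUsq t htU
  -- `t x t⁻¹ = z x`
  have htx : t * x * t⁻¹ = z * x := by
    set tx : ↥P := ⟨t, htP⟩ * x' * ⟨t, htP⟩⁻¹ with htxdef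
    have htxT : tx ∈ T.subgroupOf P := ‹(T.subgroupOf P).Normal›.conj_mem x' hxT _
    have hnW : tx ∉ W' := by
      intro h
      have hsq : tx * tx = 1 := by
        rw [htxdef, show ⟨t, htP⟩ * x' * ⟨t, htP⟩⁻¹ * (⟨t, htP⟩ * x' * ⟨t, htP⟩⁻¹)
          = (⟨t, htP⟩ : ↥P) * (x' * x') * ⟨t, htP⟩⁻¹ by group, hxx]; group
      rcases hu tx h hsq with e | e
      · exact hx1 (conj_eq_one_iff.1 e)
      · apply hxz
        rw [htxdef, mul_inv_eq_iff_eq_mul, ← Subgroup.mem_center_iff.1 hzc ⟨t, htP⟩] at e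
        exact mul_left_cancel e
    have hwW : x' * tx ∈ W' := (hcov tx htxT).resolve_left hnW
    set w : G := ((x' * tx : ↥P) : G) with hwdef
    have hw : w = x * (t * x * t⁻¹) := rfl
    have hti : t⁻¹ = t := inv_eq_of_mul_eq_one_right htt
    have htw : t * w * t⁻¹ = w⁻¹ := by
      rw [hw, mul_inv_rev, show (t * x * t⁻¹)⁻¹ = t * x⁻¹ * t⁻¹ by group,
        inv_eq_of_mul_eq_one_right hxx', hti]
      calc t * (x * (t * x * t)) * t = t * x * t * x * (t * t) := by group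
        _ = _ := by rw [htt, mul_one]
    have hww : w * w = 1 := by
      by_contra hne'
      obtain ⟨k, hk⟩ := hpow _ hwW (fun h => hne' (congrArg Subtype.val h))
      have hk' : s = w ^ k := congrArg Subtype.val hk
      apply hne'
      exfalso
      apply hz1'
      have h1' : t * s * t⁻¹ = s⁻¹ := by rw [hk', ← conj_zpow, htw, inv_zpow]
      rw [hts, mul_inv_cancel_right] at h1'
      rw [← hss', ← mul_inv_cancel s, ← h1']
    have hxi : x⁻¹ = x := inv_eq_of_mul_eq_one_right hxx'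
    rcases hu _ hwW (Subtype.ext hww) with e | e
    · exfalso
      have e' : x * (t * x * t⁻¹) = 1 := congrArg Subtype.val e
      have htx' : t * x = x * t := by
        rw [← mul_inv_eq_iff_eq_mul, eq_inv_of_mul_eq_one_right e', hxi]
      exact hxz' (h1 t htU ht1 x hxA z hzA hxx' hzz' hx1' hz1' hzx.symm htx' (hzcP t htP))
    · have e' : x * (t * x * t⁻¹) = z := congrArg Subtype.val e
      calc t * x * t⁻¹ = x * (x * (t * x * t⁻¹)) := by rw [← mul_assoc x x, hxx', one_mul]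
        _ = z * x := by rw [e', hzx]
  have hsx : s * x * s⁻¹ = z * x := by
    calc s * x * s⁻¹ = s * (x * s⁻¹ * x⁻¹) * x := by group
      _ = z * x := by rw [← conj_inv, hxs', inv_inv, hss']
  set q := t * s with hq
  have hqz : q * z = z * q := hzcP q (mul_mem htP hsT.1)
  have hqx : q * x = x * q := by
    rw [← mul_inv_eq_iff_eq_mul]
    calc q * x * q⁻¹ = t * (s * x * s⁻¹) * t⁻¹ := by rw [hq]; group
      _ = (t * z * t⁻¹) * (t * x * t⁻¹) := by rw [hsx]; group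
      _ = x := by rw [hzcP t htP, mul_inv_cancel_right, htx, ← mul_assoc, hzz', one_mul]
  have hqq : q * q = z := by
    rw [hq, (show Commute t s from hts).symm.mul_mul_mul_comm, htt, hss', one_mul]
  have hqA : q ∉ A := by
    intro h
    rcases hCT x ⟨x'.2, hxA⟩ hxx' hx1' hxz' q ⟨mul_mem htP hsT.1, h⟩ hqx with e | e | e | e <;>
      rw [e] at hqq
    · exact hz1' (by simpa using hqq.symm)
    · exact hz1' (hqq.symm.trans hzz')
    · exact hz1' (hqq.symm.trans hxx')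
    · apply hz1'
      rw [← hqq, (show Commute z x from hzx).symm.mul_mul_mul_comm, hzz', hxx', one_mul]
  -- Thompson transfer: `x` is conjugate to `z`
  obtain ⟨g, hgA, hg⟩ : ∃ g ∈ A, g * x * g⁻¹ = z := by
    let TA : Sylow 2 ↥A := IsPGroup.toSylow (P := T.subgroupOf A)
      (hT2.of_equiv (Subgroup.subgroupOfEquivOfLe (inf_le_right : T ≤ A)).symm) hTA
    let Wg : Subgroup G := W'.map P.subtype
    have hWgT : Wg ≤ T := by rintro _ ⟨y, hy, rfl⟩; exact hWT hy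
    have hWmem : ∀ y : ↥P, (y : G) ∈ Wg ↔ y ∈ W' := fun y =>
      ⟨fun ⟨y', hy', e⟩ => (Subtype.ext e : y' = y) ▸ hy', fun h => ⟨y, h, rfl⟩⟩
    have hle : Wg.subgroupOf A ≤ (TA : Subgroup ↥A) := fun y hy => hWgT hy
    have hidx : (Wg.subgroupOf A).relIndex (TA : Subgroup ↥A) = 2 := by
      show (Wg.subgroupOf A).relIndex (T.subgroupOf A) = 2
      rw [Subgroup.relIndex_subgroupOf inf_le_right, Subgroup.relIndex, Subgroup.index_eq_two_iff]
      refine ⟨⟨x, x'.2, hxA⟩, fun y => ?_⟩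
      simp only [Subgroup.mem_subgroupOf, Subgroup.coe_mul]
      rcases hcov ⟨y, y.2.1⟩ y.2 with h | h
      · refine Or.inr ⟨(hWmem ⟨y, y.2.1⟩).2 h, fun h' => hxW ?_⟩
        have := mul_mem (inv_mem h) ((hWmem (⟨y, y.2.1⟩ * x')).1 h')
        simpa using this
      · refine Or.inl ⟨(hWmem (⟨y, y.2.1⟩ * x')).2 ?_, fun h' => hxW ?_⟩
        · rcases hcov (⟨y, y.2.1⟩ * x') (mul_mem (show (⟨y, y.2.1⟩ : ↥P) ∈ T.subgroupOf P from y.2) hxT)
            with h2 | h2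
          · exact h2
          · exfalso
            have h3 : (⟨y, y.2.1⟩ : ↥P) * x' ∈ W' := by
              have hW'n : (x' * ⟨y, y.2.1⟩ : ↥P) ∈ W' := h
              have h4 := mul_mem (inv_mem hW'n) h2
              exact absurd (by simpa using h4) hxW
            exact hxW (by
              have h4 := mul_mem (inv_mem h) h2
              simpa using h4)
        · have := mul_mem h (inv_mem ((hWmem ⟨y, y.2.1⟩).1 h'))
          simpa using this
    rcases S0111.result TA (Wg.subgroupOf A) hle hidx ⟨x, hxA⟩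
        (orderOf_eq_prime (Subtype.ext (by simpa [sq] using hxx'))
          (fun h => hx1' (congrArg Subtype.val h)))
        (show x ∈ T from ⟨x'.2, hxA⟩) (fun h => hxW ((hWmem x').1 h)) with ⟨M, hM, hMi, -⟩ | ⟨g, hg⟩
    · exact absurd hMi (hperf M hM)
    · obtain ⟨y, hy, hye⟩ := hg
      have hye' : (y : G) = g * x * (g : G)⁻¹ := hye
      refine ⟨g, g.2, ?_⟩
      have hyy : (y : G) * y = 1 := by
        rw [hye', show (g : G) * x * (g : G)⁻¹ * (g * x * (g : G)⁻¹)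
          = g * (x * x) * (g : G)⁻¹ by group, hxx']; group
      rcases hu y hy (Subtype.ext hyy) with e | e
      · exact absurd (conj_eq_one_iff.1 (hye'.symm.trans (congrArg Subtype.val e))) hx1'
      · exact hye'.symm.trans (congrArg Subtype.val e)
  -- an element of `N_A(V)` moving `z`
  obtain ⟨n, hnA, hnx, hnz⟩ : ∃ n ∈ A, n * x * n⁻¹ = x ∧ n * z * n⁻¹ = z * x := by
    have hVC : V ≤ A ⊓ Subgroup.centralizer ({x} : Set G) := fun y hy => by
      rcases (hVm y).1 hy with rfl | rfl | rfl | rfl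
      · exact one_mem _
      · exact ⟨hzA, Subgroup.mem_centralizer_singleton_iff.2 hzx⟩
      · exact ⟨hxA, Subgroup.mem_centralizer_singleton_iff.2 rfl⟩
      · exact ⟨mul_mem hzA hxA, Subgroup.mem_centralizer_singleton_iff.2
          ((show Commute z x from hzx).mul_left (Commute.refl x)).eq⟩
    have hV2 : IsPGroup 2 ↥V := fun u => ⟨1, by
      haveI := hV
      rw [pow_one, sq]; exact IsKleinFour.mul_self u⟩
    obtain ⟨R, hR, hVR, hRC, -, hRu⟩ := exists_twoSylow hV2 hVC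
    have hne' : V.subgroupOf R ≠ ⊤ := by
      intro htop
      have hRV : R ≤ V := fun y hy => by
        have : (⟨y, hy⟩ : R) ∈ V.subgroupOf R := htop ▸ Subgroup.mem_top _
        exact this
      have hgT : T.map (MulAut.conj g⁻¹).toMonoidHom ≤ A ⊓ Subgroup.centralizer ({x} : Set G) := by
        rintro _ ⟨y, hy, rfl⟩
        refine ⟨by simpa using mul_mem (mul_mem (inv_mem hgA) hy.2) hgA,
          Subgroup.mem_centralizer_singleton_iff.2 ?_⟩
        have hxg : x = g⁻¹ * z * g := by rw [← hg]; group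
        simp only [MulEquiv.coe_toMonoidHom, MulAut.conj_apply, inv_inv]
        rw [hxg, show g⁻¹ * y * g * (g⁻¹ * z * g) = g⁻¹ * (y * z) * g by group, hzcP y hy.1]
        group
      obtain ⟨d, -, hd⟩ := hRu _ (hT2.map _) hgT
      have hle : (T.map (MulAut.conj g⁻¹).toMonoidHom).map (MulAut.conj d).toMonoidHom ≤ V := by
        rintro _ ⟨y, hy, rfl⟩
        exact hRV (hd y hy)
      have hc4 := Subgroup.card_le_of_le hle
      rw [← Nat.card_congr (Subgroup.equivMapOfInjective _ _ (MulAut.conj d).injective).toEquiv,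
        ← Nat.card_congr (Subgroup.equivMapOfInjective _ _ (MulAut.conj g⁻¹).injective).toEquiv] at hc4
      have hVT : V ≤ T := fun y hy => by
        rcases (hVm y).1 hy with rfl | rfl | rfl | rfl
        exacts [one_mem T, hWT hzW, ⟨x'.2, hxA⟩, mul_mem (hWT hzW) ⟨x'.2, hxA⟩]
      have hsV : s ∈ V := (Subgroup.eq_of_le_of_card_ge hVT hc4).symm ▸ hsT
      haveI := hV
      exact hz1' (hss' ▸ congrArg Subtype.val (IsKleinFour.mul_self (⟨s, hsV⟩ : V)))
    haveI : Group.IsNilpotent ↥R := hR.isNilpotent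
    obtain ⟨n, hn, hnV⟩ := SetLike.exists_of_lt
      (normalizerCondition_of_isNilpotent _ (lt_top_iff_ne_top.2 hne'))
    have hnA : (n : G) ∈ A := (hRC n.2).1
    have hnx : (n : G) * x * (n : G)⁻¹ = x := by
      rw [Subgroup.mem_centralizer_singleton_iff.1 (hRC n.2).2, mul_inv_cancel_right]
    have hzR : z ∈ R := hVR ((hVm z).2 (Or.inr (Or.inl rfl)))
    have hnzV : (n : G) * z * (n : G)⁻¹ ∈ V :=
      (Subgroup.mem_normalizer_iff.1 hn ⟨z, hzR⟩).1 ((hVm z).2 (Or.inr (Or.inl rfl)))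
    refine ⟨n, hnA, hnx, ?_⟩
    rcases (hVm _).1 hnzV with e | e | e | e
    · exact absurd (conj_eq_one_iff.1 e) hz1'
    · exfalso
      apply hnV
      have hclo : V ⊔ Subgroup.zpowers (n : G) ≤ R := sup_le hVR (Subgroup.zpowers_le.2 n.2)
      have hle2 : V ⊔ Subgroup.zpowers (n : G) ≤ Subgroup.centralizer ({z, x} : Set G) := by
        refine sup_le (fun y hy => ?_) (Subgroup.zpowers_le.2 ?_) <;>
          rw [Subgroup.mem_centralizer_iff]
        · have hzc' : Commute z x := hzx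
          rintro w (rfl | rfl) <;> rcases (hVm y).1 hy with rfl | rfl | rfl | rfl
          · simp
          · rfl
          · exact hzc'.eq
          · exact ((Commute.refl z).mul_right hzc').eq
          · simp
          · exact hzc'.symm.eq
          · rfl
          · exact (hzc'.symm.mul_right (Commute.refl x)).eq
        · rintro w (rfl | rfl)
          · exact (mul_inv_eq_iff_eq_mul.1 e).symm
          · exact (mul_inv_eq_iff_eq_mul.1 hnx).symm
      show (n : G) ∈ V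
      refine (hVm _).2 (hQ _ (hR.to_le hclo) (hclo.trans (fun y hy => (hRC hy).1))
        (Subgroup.mem_sup_left ((hVm x).2 (Or.inr (Or.inr (Or.inl rfl)))))
        (fun y hy => (Subgroup.mem_centralizer_iff.1 (hle2 hy) z (by simp)).symm)
        (fun y hy => (Subgroup.mem_centralizer_iff.1 (hle2 hy) x (by simp)).symm)
        n (Subgroup.mem_sup_right (Subgroup.mem_zpowers _)))
    · exfalso
      rw [← hnx] at e
      exact hxz' (by simpa using e.symm)
    · exact e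
  -- a Sylow 2-subgroup of `C(V)` in `A⟨q⟩` has squares in `{1, z}`
  have hqN : q ∈ N := hPN (mul_mem htP hsT.1)
  set X := A ⊔ Subgroup.zpowers q with hX
  have hXA : ∀ y ∈ X, y ∈ A ∨ y * q⁻¹ ∈ A := by
    intro y hy
    have hy' : y ∈ ((A : Set G) * (Subgroup.zpowers q : Set G)) := by
      rw [← Subgroup.coe_mul_of_right_le_normalizer_left A _ (Subgroup.zpowers_le.2 hqN)]
      exact hy
    obtain ⟨a', ha', _, ⟨i, rfl⟩, rfl⟩ := hy'
    have h2 : ∀ j : ℤ, q ^ (2 * j) ∈ A := fun j => by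
      rw [zpow_mul, zpow_two, hqq]; exact zpow_mem hzA j
    rcases Int.even_or_odd' i with ⟨j, rfl | rfl⟩
    · exact Or.inl (mul_mem ha' (h2 j))
    · refine Or.inr ?_
      have : a' * q ^ (2 * j + 1) * q⁻¹ = a' * q ^ (2 * j) := by group
      show a' * q ^ (2 * j + 1) * q⁻¹ ∈ A
      rw [this]; exact mul_mem ha' (h2 j)
  set C := X ⊓ Subgroup.centralizer ({z, x} : Set G) with hC
  have hCmem : ∀ {y}, y ∈ X → y * z = z * y → y * x = x * y → y ∈ C := fun hy h h' =>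
    ⟨hy, Subgroup.mem_centralizer_iff.2 (by rintro w (rfl | rfl); exacts [h.symm, h'.symm])⟩
  have hzC : z ∈ C := hCmem (Subgroup.mem_sup_left hzA) rfl hzx
  have hxC : x ∈ C := hCmem (Subgroup.mem_sup_left hxA) hzx.symm rfl
  have hqC : q ∈ C := hCmem (Subgroup.mem_sup_right (Subgroup.mem_zpowers q)) hqz hqx
  have hQ0 : Subgroup.closure ({q, x} : Set G) ≤ C ⊓ P :=
    (Subgroup.closure_le _).2 (by
      rintro w (rfl | rfl)
      exacts [⟨hqC, mul_mem htP hsT.1⟩, ⟨hxC, x'.2⟩])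
  obtain ⟨S, hS, hQS, hSC, -, hSu⟩ :=
    exists_twoSylow (hP.to_le (hQ0.trans inf_le_right)) (hQ0.trans inf_le_left)
  have hqS : q ∈ S := hQS (Subgroup.subset_closure (by simp))
  have hxS : x ∈ S := hQS (Subgroup.subset_closure (by simp))
  have hSA : ∀ y ∈ S, y ∈ A → y = 1 ∨ y = z ∨ y = x ∨ y = z * x := fun y hy hyA =>
    hQ (S ⊓ A) (hS.to_le inf_le_left) inf_le_right ⟨hxS, hxA⟩
      (fun w hw => (Subgroup.mem_centralizer_iff.1 (hSC hw.1).2 z (by simp)).symm)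
      (fun w hw => (Subgroup.mem_centralizer_iff.1 (hSC hw.1).2 x (by simp)).symm) y ⟨hy, hyA⟩
  have hzc' : Commute z x := hzx
  have hVsq : ∀ v, (v = 1 ∨ v = z ∨ v = x ∨ v = z * x) → v * v = 1 ∧ Commute q v := by
    rintro v (rfl | rfl | rfl | rfl)
    · exact ⟨one_mul 1, Commute.one_right q⟩
    · exact ⟨hzz', hqz⟩
    · exact ⟨hxx', hqx⟩
    · exact ⟨by rw [hzc'.symm.mul_mul_mul_comm, hzz', hxx', one_mul],
        (show Commute q z from hqz).mul_right hqx⟩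
  have hsq : ∀ y ∈ S, y * y = 1 ∨ y * y = z := by
    intro y hy
    rcases hXA y (hSC hy).1 with h | h
    · exact Or.inl (hVsq y (hSA y hy h)).1
    · obtain ⟨hv2, hvc⟩ := hVsq _ (hSA _ (mul_mem hy (inv_mem hqS)) h)
      refine Or.inr ?_
      calc y * y = (y * q⁻¹ * q) * (y * q⁻¹ * q) := by rw [inv_mul_cancel_right]
        _ = z := by rw [hvc.mul_mul_mul_comm, hv2, hqq, one_mul]
  set q' := n * q * n⁻¹ with hq'
  have hq'z : q' * z = z * q' := by
    have hz' : n * (z * x) * n⁻¹ = z := by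
      rw [show n * (z * x) * n⁻¹ = n * z * n⁻¹ * (n * x * n⁻¹) by group, hnz, hnx, mul_assoc,
        hxx', mul_one]
    have hqzx : q * (z * x) = z * x * q := ((show Commute q z from hqz).mul_right hqx).eq
    calc q' * z = q' * (n * (z * x) * n⁻¹) := by rw [hz']
      _ = n * (q * (z * x)) * n⁻¹ := by rw [hq']; group
      _ = n * (z * x * q) * n⁻¹ := by rw [hqzx]
      _ = (n * (z * x) * n⁻¹) * q' := by rw [hq']; group
      _ = z * q' := by rw [hz']
  have hq'x : q' * x = x * q' := by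
    calc q' * x = q' * (n * x * n⁻¹) := by rw [hnx]
      _ = n * (q * x) * n⁻¹ := by rw [hq']; group
      _ = n * (x * q) * n⁻¹ := by rw [hqx]
      _ = (n * x * n⁻¹) * q' := by rw [hq']; group
      _ = x * q' := by rw [hnx]
  have hq'C : q' ∈ C := hCmem (mul_mem (mul_mem (Subgroup.mem_sup_left hnA)
    (Subgroup.mem_sup_right (Subgroup.mem_zpowers q))) (inv_mem (Subgroup.mem_sup_left hnA)))
    hq'z hq'x
  have hR2 : IsPGroup 2 ↥(Subgroup.zpowers q') := by
    refine (hP.to_le (Subgroup.zpowers_le.2 (mul_mem htP hsT.1) :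
      Subgroup.zpowers q ≤ P) |>.map (MulAut.conj n).toMonoidHom).to_le ?_
    rw [Subgroup.zpowers_le]
    exact ⟨q, Subgroup.mem_zpowers q, rfl⟩
  obtain ⟨d, hd, hdS⟩ := hSu _ hR2 (Subgroup.zpowers_le.2 hq'C)
  have hdq := hdS q' (Subgroup.mem_zpowers q')
  have hdzx : d * (z * x) * d⁻¹ = z * x := by
    have h := ((show Commute d z from (Subgroup.mem_centralizer_iff.1 hd.2 z (by simp)).symm).mul_right
      (Subgroup.mem_centralizer_iff.1 hd.2 x (by simp)).symm).eq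
    rw [h, mul_inv_cancel_right]
  have hfin : d * q' * d⁻¹ * (d * q' * d⁻¹) = z * x := by
    rw [show d * q' * d⁻¹ * (d * q' * d⁻¹) = d * (n * (q * q) * n⁻¹) * d⁻¹ by rw [hq']; group,
      hqq, hnz, hdzx]
  rcases hsq _ hdq with e | e <;> rw [hfin] at e
  · exact hxz' ((eq_inv_of_mul_eq_one_right e).trans (inv_eq_of_mul_eq_one_right hzz'))
  · exact hx1' (by simpa using e)

end Cfsg.Agent.Lib.RankOneFour
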